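import Cfsg.Agent.Spor.HSpb.D0

set_option autoImplicit false
set_option maxRecDepth 100000000
set_option Elab.async false

namespace Cfsg.Agent.Spor.HSpb

theorem ok0 : Net.okb 8 n0 = true := by decide +kernel

theorem ok1 : Net.okb 8 n1 = true := by decide +kernel

theorem ok2 : Net.okb 8 n2 = true := by decide +kernel

theorem ok3 : Net.okb 8 n3 = true := by decide +kernel

theorem rel0 : T.rel 8 [1, 1] 0 8 = true := by decide +kernel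

theorem rel1 : T.rel 8 [2, 2] 0 8 = true := by decide +kernel

theorem rel2 : T.rel 8 [3, 3] 0 8 = true := by decide +kernel

theorem rel3 : T.rel 8 [4, 4] 0 8 = true := by decide +kernel

theorem rel4 : T.rel 8 [1, 3, 1, 3] 0 8 = true := by decide +kernel

theorem rel5 : T.rel 8 [1, 2, 1, 2, 1, 2, 1, 2] 0 8 = true := by decide +kernel

theorem rel6 : T.rel 8 [1, 2, 3, 2, 3, 2, 1, 2, 3, 2, 3, 2, 1, 3, 2, 3, 2, 3, 2, 1, 2, 3, 2, 3, 2] 0 8 = true := by decide +kernel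

theorem rel7 : T.rel 8 [1, 2, 1, 2, 3, 2, 1, 2, 3, 2, 1, 2, 3, 2, 1, 2, 3, 2, 1, 2, 3] 0 8 = true := by decide +kernel

theorem rel8 : T.rel 8 [3, 4, 3, 4] 0 8 = true := by decide +kernel

theorem rel9 : T.rel 8 [2, 4, 2, 4, 2, 4] 0 8 = true := by decide +kernel

theorem rel10 : T.rel 8 [4, 1, 2, 1, 2, 4, 2, 1, 2, 1] 0 8 = true := by decide +kernel

theorem rel11 : T.rel 8 [2, 3, 2, 3, 4, 2, 3, 4, 2, 3, 2, 4] 0 8 = true := by decide +kernel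

theorem rel12 : T.rel 8 [4, 1, 4, 1, 4, 1, 4, 1, 4, 1] 0 8 = true := by decide +kernel

theorem hcov : T.treeCov (ones 175) L 1 = true := by decide +kernel

theorem hg : lall (fun z => band (memL L z) (band (sub (ones 175) (T.let z).cl) (T.closed (ones 175) z))) gs = true := by decide +kernel

theorem rot1_1 : T.rot 1 [1] (sel (ones 175) ip1 1) = true := by decide +kernel

theorem rot1_1r : band (Rule.ok (2 * 4) EX RL ⟨1 :: [1], [], 9, false⟩) (lall (memL L) [1]) = true := by decide +kernel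

theorem rot1_2 : T.rot 1 [3, 1, 3] (sel (ones 175) ip1 2) = true := by decide +kernel

theorem rot1_2r : band (Rule.ok (2 * 4) EX RL ⟨1 :: [3, 1, 3], [], 0, true⟩) (lall (memL L) [3, 1, 3]) = true := by decide +kernel

theorem rot1_3 : T.rot 1 [2, 1, 2, 1, 2, 1, 2] (sel (ones 175) ip1 3) = true := by decide +kernel

theorem rot1_3r : band (Rule.ok (2 * 4) EX RL ⟨1 :: [2, 1, 2, 1, 2, 1, 2], [], 1, true⟩) (lall (memL L) [2, 1, 2, 1, 2, 1, 2]) = true := by decide +kernel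

theorem rot1_4 : T.rot 1 [2, 1, 2, 4, 2, 1, 2, 1, 4] (sel (ones 175) ip1 4) = true := by decide +kernel

theorem rot1_4r : band (Rule.ok (2 * 4) EX RL ⟨1 :: [2, 1, 2, 4, 2, 1, 2, 1, 4], [], 6, false⟩) (lall (memL L) [2, 1, 2, 4, 2, 1, 2, 1, 4]) = true := by decide +kernel

theorem rot1_5 : T.rot 1 [2, 4, 2, 1, 2, 1, 4, 1, 2] (sel (ones 175) ip1 5) = true := by decide +kernel

theorem rot1_5r : band (Rule.ok (2 * 4) EX RL ⟨1 :: [2, 4, 2, 1, 2, 1, 4, 1, 2], [0, 2], 6, false⟩) (lall (memL L) [2, 4, 2, 1, 2, 1, 4, 1, 2]) = true := by decide +kernel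

theorem rot1_6 : T.rot 1 [2, 1, 4, 1, 2, 1, 2, 4, 2] (sel (ones 175) ip1 6) = true := by decide +kernel

theorem rot1_6r : band (Rule.ok (2 * 4) EX RL ⟨1 :: [2, 1, 4, 1, 2, 1, 2, 4, 2], [0, 2, 0], 6, true⟩) (lall (memL L) [2, 1, 4, 1, 2, 1, 2, 4, 2]) = true := by decide +kernel

theorem rot1_7 : T.rot 1 [4, 1, 2, 1, 2, 4, 2, 1, 2] (sel (ones 175) ip1 7) = true := by decide +kernel

theorem rot1_7r : band (Rule.ok (2 * 4) EX RL ⟨1 :: [4, 1, 2, 1, 2, 4, 2, 1, 2], [0], 6, true⟩) (lall (memL L) [4, 1, 2, 1, 2, 4, 2, 1, 2]) = true := by decide +kernel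

theorem rot1_8 : T.rot 1 [4, 1, 4, 1, 4, 1, 4, 1, 4] (sel (ones 175) ip1 8) = true := by decide +kernel

theorem rot1_8r : band (Rule.ok (2 * 4) EX RL ⟨1 :: [4, 1, 4, 1, 4, 1, 4, 1, 4], [], 8, false⟩) (lall (memL L) [4, 1, 4, 1, 4, 1, 4, 1, 4]) = true := by decide +kernel

theorem rot1_9 : T.rot 1 [2, 1, 2, 3, 2, 1, 2, 3, 2, 1, 2, 3, 2, 1, 2, 3, 2, 1, 2, 3] (sel (ones 175) ip1 9) = true := by decide +kernel

theorem rot1_9r : band (Rule.ok (2 * 4) EX RL ⟨1 :: [2, 1, 2, 3, 2, 1, 2, 3, 2, 1, 2, 3, 2, 1, 2, 3, 2, 1, 2, 3], [], 3, true⟩) (lall (memL L) [2, 1, 2, 3, 2, 1, 2, 3, 2, 1, 2, 3, 2, 1, 2, 3, 2, 1, 2, 3]) = true := by decide +kernel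

theorem rot1_10 : T.rot 1 [2, 3, 2, 1, 2, 3, 2, 1, 2, 3, 2, 1, 2, 3, 2, 1, 2, 3, 1, 2] (sel (ones 175) ip1 10) = true := by decide +kernel

theorem rot1_10r : band (Rule.ok (2 * 4) EX RL ⟨1 :: [2, 3, 2, 1, 2, 3, 2, 1, 2, 3, 2, 1, 2, 3, 2, 1, 2, 3, 1, 2], [0, 2], 3, true⟩) (lall (memL L) [2, 3, 2, 1, 2, 3, 2, 1, 2, 3, 2, 1, 2, 3, 2, 1, 2, 3, 1, 2]) = true := by decide +kernel

theorem rot1_11 : T.rot 1 [2, 1, 3, 2, 1, 2, 3, 2, 1, 2, 3, 2, 1, 2, 3, 2, 1, 2, 3, 2] (sel (ones 175) ip1 11) = true := by decide +kernel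

theorem rot1_11r : band (Rule.ok (2 * 4) EX RL ⟨1 :: [2, 1, 3, 2, 1, 2, 3, 2, 1, 2, 3, 2, 1, 2, 3, 2, 1, 2, 3, 2], [0, 2, 0], 3, false⟩) (lall (memL L) [2, 1, 3, 2, 1, 2, 3, 2, 1, 2, 3, 2, 1, 2, 3, 2, 1, 2, 3, 2]) = true := by decide +kernel

theorem rot1_12 : T.rot 1 [3, 2, 1, 2, 3, 2, 1, 2, 3, 2, 1, 2, 3, 2, 1, 2, 3, 2, 1, 2] (sel (ones 175) ip1 12) = true := by decide +kernel

theorem rot1_12r : band (Rule.ok (2 * 4) EX RL ⟨1 :: [3, 2, 1, 2, 3, 2, 1, 2, 3, 2, 1, 2, 3, 2, 1, 2, 3, 2, 1, 2], [0], 3, false⟩) (lall (memL L) [3, 2, 1, 2, 3, 2, 1, 2, 3, 2, 1, 2, 3, 2, 1, 2, 3, 2, 1, 2]) = true := by decide +kernel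

theorem rot1_13 : T.rot 1 [2, 3, 2, 3, 2, 1, 3, 2, 3, 2, 3, 2, 1, 2, 3, 2, 3, 2, 1, 2, 3, 2, 3, 2] (sel (ones 175) ip1 13) = true := by decide +kernel

theorem rot1_13r : band (Rule.ok (2 * 4) EX RL ⟨1 :: [2, 3, 2, 3, 2, 1, 3, 2, 3, 2, 3, 2, 1, 2, 3, 2, 3, 2, 1, 2, 3, 2, 3, 2], [0, 2, 4, 2, 4, 2], 2, true⟩) (lall (memL L) [2, 3, 2, 3, 2, 1, 3, 2, 3, 2, 3, 2, 1, 2, 3, 2, 3, 2, 1, 2, 3, 2, 3, 2]) = true := by decide +kernel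

theorem rot1_14 : T.rot 1 [3, 2, 3, 2, 3, 2, 1, 2, 3, 2, 3, 2, 1, 2, 3, 2, 3, 2, 1, 2, 3, 2, 3, 2] (sel (ones 175) ip1 14) = true := by decide +kernel

theorem rot1_14r : band (Rule.ok (2 * 4) EX RL ⟨1 :: [3, 2, 3, 2, 3, 2, 1, 2, 3, 2, 3, 2, 1, 2, 3, 2, 3, 2, 1, 2, 3, 2, 3, 2], [0, 2, 4, 2, 4, 2, 0, 2, 4, 2, 4, 2], 2, true⟩) (lall (memL L) [3, 2, 3, 2, 3, 2, 1, 2, 3, 2, 3, 2, 1, 2, 3, 2, 3, 2, 1, 2, 3, 2, 3, 2]) = true := by decide +kernel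

theorem rot1_15 : T.rot 1 [2, 3, 2, 3, 2, 1, 2, 3, 2, 3, 2, 1, 2, 3, 2, 3, 2, 1, 3, 2, 3, 2, 3, 2] (sel (ones 175) ip1 15) = true := by decide +kernel

theorem rot1_15r : band (Rule.ok (2 * 4) EX RL ⟨1 :: [2, 3, 2, 3, 2, 1, 2, 3, 2, 3, 2, 1, 2, 3, 2, 3, 2, 1, 3, 2, 3, 2, 3, 2], [2, 4, 2, 4, 2, 0], 2, true⟩) (lall (memL L) [2, 3, 2, 3, 2, 1, 2, 3, 2, 3, 2, 1, 2, 3, 2, 3, 2, 1, 3, 2, 3, 2, 3, 2]) = true := by decide +kernel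

theorem rot1_16 : T.rot 1 [2, 3, 2, 3, 2, 3, 1, 2, 3, 2, 3, 2, 1, 2, 3, 2, 3, 2, 1, 2, 3, 2, 3, 2] (sel (ones 175) ip1 16) = true := by decide +kernel

theorem rot1_16r : band (Rule.ok (2 * 4) EX RL ⟨1 :: [2, 3, 2, 3, 2, 3, 1, 2, 3, 2, 3, 2, 1, 2, 3, 2, 3, 2, 1, 2, 3, 2, 3, 2], [2, 4, 2, 4, 2], 2, false⟩) (lall (memL L) [2, 3, 2, 3, 2, 3, 1, 2, 3, 2, 3, 2, 1, 2, 3, 2, 3, 2, 1, 2, 3, 2, 3, 2]) = true := by decide +kernel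

theorem rot1_17 : T.rot 1 [2, 3, 2, 3, 2, 1, 2, 3, 2, 3, 2, 1, 2, 3, 2, 3, 2, 1, 2, 3, 2, 3, 2, 3] (sel (ones 175) ip1 17) = true := by decide +kernel

theorem rot1_17r : band (Rule.ok (2 * 4) EX RL ⟨1 :: [2, 3, 2, 3, 2, 1, 2, 3, 2, 3, 2, 1, 2, 3, 2, 3, 2, 1, 2, 3, 2, 3, 2, 3], [2, 4, 2, 4, 2, 0, 2, 4, 2, 4, 2, 4], 2, false⟩) (lall (memL L) [2, 3, 2, 3, 2, 1, 2, 3, 2, 3, 2, 1, 2, 3, 2, 3, 2, 1, 2, 3, 2, 3, 2, 3]) = true := by decide +kernel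

theorem cov1 : T.cover 1 [(sel (ones 175) ip1 1), (sel (ones 175) ip1 2), (sel (ones 175) ip1 3), (sel (ones 175) ip1 4), (sel (ones 175) ip1 5), (sel (ones 175) ip1 6), (sel (ones 175) ip1 7), (sel (ones 175) ip1 8), (sel (ones 175) ip1 9), (sel (ones 175) ip1 10), (sel (ones 175) ip1 11), (sel (ones 175) ip1 12), (sel (ones 175) ip1 13), (sel (ones 175) ip1 14), (sel (ones 175) ip1 15), (sel (ones 175) ip1 16), (sel (ones 175) ip1 17), 1] = true := by decide +kernel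

theorem tl1 : T.treeLt 8 1 = true := by decide +kernel

theorem rot2_1 : T.rot 2 [2] (sel (ones 175) ip2 1) = true := by decide +kernel

theorem rot2_1r : band (Rule.ok (2 * 4) EX RL ⟨2 :: [2], [], 9, false⟩) (lall (memL L) [2]) = true := by decide +kernel

theorem rot2_2 : T.rot 2 [4, 2, 4, 2, 4] (sel (ones 175) ip2 2) = true := by decide +kernel

theorem rot2_2r : band (Rule.ok (2 * 4) EX RL ⟨2 :: [4, 2, 4, 2, 4], [], 5, true⟩) (lall (memL L) [4, 2, 4, 2, 4]) = true := by decide +kernel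

theorem rot2_3 : T.rot 2 [1, 2, 1, 2, 1, 2, 1] (sel (ones 175) ip2 3) = true := by decide +kernel

theorem rot2_3r : band (Rule.ok (2 * 4) EX RL ⟨2 :: [1, 2, 1, 2, 1, 2, 1], [], 1, false⟩) (lall (memL L) [1, 2, 1, 2, 1, 2, 1]) = true := by decide +kernel

theorem rot2_4 : T.rot 2 [1, 2, 4, 2, 1, 2, 1, 4, 1] (sel (ones 175) ip2 4) = true := by decide +kernel

theorem rot2_4r : band (Rule.ok (2 * 4) EX RL ⟨2 :: [1, 2, 4, 2, 1, 2, 1, 4, 1], [0], 6, false⟩) (lall (memL L) [1, 2, 4, 2, 1, 2, 1, 4, 1]) = true := by decide +kernel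

theorem rot2_5 : T.rot 2 [4, 2, 1, 2, 1, 4, 1, 2, 1] (sel (ones 175) ip2 5) = true := by decide +kernel

theorem rot2_5r : band (Rule.ok (2 * 4) EX RL ⟨2 :: [4, 2, 1, 2, 1, 4, 1, 2, 1], [0, 2, 0], 6, false⟩) (lall (memL L) [4, 2, 1, 2, 1, 4, 1, 2, 1]) = true := by decide +kernel

theorem rot2_6 : T.rot 2 [1, 2, 1, 4, 1, 2, 1, 2, 4] (sel (ones 175) ip2 6) = true := by decide +kernel

theorem rot2_6r : band (Rule.ok (2 * 4) EX RL ⟨2 :: [1, 2, 1, 4, 1, 2, 1, 2, 4], [0, 2, 0, 2], 6, true⟩) (lall (memL L) [1, 2, 1, 4, 1, 2, 1, 2, 4]) = true := by decide +kernel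

theorem rot2_7 : T.rot 2 [1, 4, 1, 2, 1, 2, 4, 2, 1] (sel (ones 175) ip2 7) = true := by decide +kernel

theorem rot2_7r : band (Rule.ok (2 * 4) EX RL ⟨2 :: [1, 4, 1, 2, 1, 2, 4, 2, 1], [0, 2], 6, true⟩) (lall (memL L) [1, 4, 1, 2, 1, 2, 4, 2, 1]) = true := by decide +kernel

theorem rot2_8 : T.rot 2 [3, 2, 3, 4, 2, 3, 4, 2, 3, 2, 4] (sel (ones 175) ip2 8) = true := by decide +kernel

theorem rot2_8r : band (Rule.ok (2 * 4) EX RL ⟨2 :: [3, 2, 3, 4, 2, 3, 4, 2, 3, 2, 4], [], 7, true⟩) (lall (memL L) [3, 2, 3, 4, 2, 3, 4, 2, 3, 2, 4]) = true := by decide +kernel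

theorem rot2_9 : T.rot 2 [3, 4, 2, 3, 4, 2, 3, 2, 4, 2, 3] (sel (ones 175) ip2 9) = true := by decide +kernel

theorem rot2_9r : band (Rule.ok (2 * 4) EX RL ⟨2 :: [3, 4, 2, 3, 4, 2, 3, 2, 4, 2, 3], [2, 4], 7, true⟩) (lall (memL L) [3, 4, 2, 3, 4, 2, 3, 2, 4, 2, 3]) = true := by decide +kernel

theorem rot2_10 : T.rot 2 [3, 4, 2, 3, 2, 4, 2, 3, 2, 3, 4] (sel (ones 175) ip2 10) = true := by decide +kernel

theorem rot2_10r : band (Rule.ok (2 * 4) EX RL ⟨2 :: [3, 4, 2, 3, 2, 4, 2, 3, 2, 3, 4], [2, 4, 2, 4, 6], 7, true⟩) (lall (memL L) [3, 4, 2, 3, 2, 4, 2, 3, 2, 3, 4]) = true := by decide +kernel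

theorem rot2_11 : T.rot 2 [4, 3, 2, 3, 2, 4, 2, 3, 2, 4, 3] (sel (ones 175) ip2 11) = true := by decide +kernel

theorem rot2_11r : band (Rule.ok (2 * 4) EX RL ⟨2 :: [4, 3, 2, 3, 2, 4, 2, 3, 2, 4, 3], [2, 4, 2, 4, 6, 2], 7, false⟩) (lall (memL L) [4, 3, 2, 3, 2, 4, 2, 3, 2, 4, 3]) = true := by decide +kernel

theorem rot2_12 : T.rot 2 [3, 2, 4, 2, 3, 2, 4, 3, 2, 4, 3] (sel (ones 175) ip2 12) = true := by decide +kernel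

theorem rot2_12r : band (Rule.ok (2 * 4) EX RL ⟨2 :: [3, 2, 4, 2, 3, 2, 4, 3, 2, 4, 3], [2, 4, 2], 7, false⟩) (lall (memL L) [3, 2, 4, 2, 3, 2, 4, 3, 2, 4, 3]) = true := by decide +kernel

theorem rot2_13 : T.rot 2 [4, 2, 3, 2, 4, 3, 2, 4, 3, 2, 3] (sel (ones 175) ip2 13) = true := by decide +kernel

theorem rot2_13r : band (Rule.ok (2 * 4) EX RL ⟨2 :: [4, 2, 3, 2, 4, 3, 2, 4, 3, 2, 3], [2], 7, false⟩) (lall (memL L) [4, 2, 3, 2, 4, 3, 2, 4, 3, 2, 3]) = true := by decide +kernel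

theorem rot2_14 : T.rot 2 [1, 2, 3, 2, 1, 2, 3, 2, 1, 2, 3, 2, 1, 2, 3, 2, 1, 2, 3, 1] (sel (ones 175) ip2 14) = true := by decide +kernel

theorem rot2_14r : band (Rule.ok (2 * 4) EX RL ⟨2 :: [1, 2, 3, 2, 1, 2, 3, 2, 1, 2, 3, 2, 1, 2, 3, 2, 1, 2, 3, 1], [0], 3, true⟩) (lall (memL L) [1, 2, 3, 2, 1, 2, 3, 2, 1, 2, 3, 2, 1, 2, 3, 2, 1, 2, 3, 1]) = true := by decide +kernel

theorem rot2_15 : T.rot 2 [3, 2, 1, 2, 3, 2, 1, 2, 3, 2, 1, 2, 3, 2, 1, 2, 3, 1, 2, 1] (sel (ones 175) ip2 15) = true := by decide +kernel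

theorem rot2_15r : band (Rule.ok (2 * 4) EX RL ⟨2 :: [3, 2, 1, 2, 3, 2, 1, 2, 3, 2, 1, 2, 3, 2, 1, 2, 3, 1, 2, 1], [0, 2, 0], 3, true⟩) (lall (memL L) [3, 2, 1, 2, 3, 2, 1, 2, 3, 2, 1, 2, 3, 2, 1, 2, 3, 1, 2, 1]) = true := by decide +kernel

theorem rot2_16 : T.rot 2 [1, 2, 3, 1, 2, 1, 2, 3, 2, 1, 2, 3, 2, 1, 2, 3, 2, 1, 2, 3] (sel (ones 175) ip2 16) = true := by decide +kernel

theorem rot2_16r : band (Rule.ok (2 * 4) EX RL ⟨2 :: [1, 2, 3, 1, 2, 1, 2, 3, 2, 1, 2, 3, 2, 1, 2, 3, 2, 1, 2, 3], [4, 2, 0, 2], 3, true⟩) (lall (memL L) [1, 2, 3, 1, 2, 1, 2, 3, 2, 1, 2, 3, 2, 1, 2, 3, 2, 1, 2, 3]) = true := by decide +kernel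

theorem rot2_17 : T.rot 2 [1, 3, 2, 1, 2, 3, 2, 1, 2, 3, 2, 1, 2, 3, 2, 1, 2, 3, 2, 1] (sel (ones 175) ip2 17) = true := by decide +kernel

theorem rot2_17r : band (Rule.ok (2 * 4) EX RL ⟨2 :: [1, 3, 2, 1, 2, 3, 2, 1, 2, 3, 2, 1, 2, 3, 2, 1, 2, 3, 2, 1], [0, 2], 3, false⟩) (lall (memL L) [1, 3, 2, 1, 2, 3, 2, 1, 2, 3, 2, 1, 2, 3, 2, 1, 2, 3, 2, 1]) = true := by decide +kernel

theorem rot2_18 : T.rot 2 [3, 2, 1, 2, 3, 2, 3, 2, 1, 3, 2, 3, 2, 3, 2, 1, 2, 3, 2, 3, 2, 1, 2, 3] (sel (ones 175) ip2 18) = true := by decide +kernel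

theorem rot2_18r : band (Rule.ok (2 * 4) EX RL ⟨2 :: [3, 2, 1, 2, 3, 2, 3, 2, 1, 3, 2, 3, 2, 3, 2, 1, 2, 3, 2, 3, 2, 1, 2, 3], [0, 2, 4], 2, true⟩) (lall (memL L) [3, 2, 1, 2, 3, 2, 3, 2, 1, 3, 2, 3, 2, 3, 2, 1, 2, 3, 2, 3, 2, 1, 2, 3]) = true := by decide +kernel

theorem rot2_19 : T.rot 2 [1, 3, 2, 3, 2, 3, 2, 1, 2, 3, 2, 3, 2, 1, 2, 3, 2, 3, 2, 1, 2, 3, 2, 3] (sel (ones 175) ip2 19) = true := by decide +kernel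

theorem rot2_19r : band (Rule.ok (2 * 4) EX RL ⟨2 :: [1, 3, 2, 3, 2, 3, 2, 1, 2, 3, 2, 3, 2, 1, 2, 3, 2, 3, 2, 1, 2, 3, 2, 3], [0, 2, 4, 2, 4, 2, 0, 2, 4, 2, 4], 2, true⟩) (lall (memL L) [1, 3, 2, 3, 2, 3, 2, 1, 2, 3, 2, 3, 2, 1, 2, 3, 2, 3, 2, 1, 2, 3, 2, 3]) = true := by decide +kernel

theorem rot2_20 : T.rot 2 [3, 2, 3, 2, 1, 2, 3, 2, 3, 2, 1, 2, 3, 2, 3, 2, 1, 2, 3, 2, 3, 2, 1, 3] (sel (ones 175) ip2 20) = true := by decide +kernel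

theorem rot2_20r : band (Rule.ok (2 * 4) EX RL ⟨2 :: [3, 2, 3, 2, 1, 2, 3, 2, 3, 2, 1, 2, 3, 2, 3, 2, 1, 2, 3, 2, 3, 2, 1, 3], [2, 4, 2, 4, 2, 0, 2, 4, 2, 4, 2], 2, true⟩) (lall (memL L) [3, 2, 3, 2, 1, 2, 3, 2, 3, 2, 1, 2, 3, 2, 3, 2, 1, 2, 3, 2, 3, 2, 1, 3]) = true := by decide +kernel

theorem rot2_21 : T.rot 2 [3, 2, 1, 2, 3, 2, 3, 2, 1, 2, 3, 2, 3, 2, 1, 3, 2, 3, 2, 3, 2, 1, 2, 3] (sel (ones 175) ip2 21) = true := by decide +kernel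

theorem rot2_21r : band (Rule.ok (2 * 4) EX RL ⟨2 :: [3, 2, 1, 2, 3, 2, 3, 2, 1, 2, 3, 2, 3, 2, 1, 3, 2, 3, 2, 3, 2, 1, 2, 3], [2, 4, 2], 2, true⟩) (lall (memL L) [3, 2, 1, 2, 3, 2, 3, 2, 1, 2, 3, 2, 3, 2, 1, 3, 2, 3, 2, 3, 2, 1, 2, 3]) = true := by decide +kernel

theorem rot2_22 : T.rot 2 [3, 2, 1, 2, 3, 2, 3, 2, 3, 1, 2, 3, 2, 3, 2, 1, 2, 3, 2, 3, 2, 1, 2, 3] (sel (ones 175) ip2 22) = true := by decide +kernel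

theorem rot2_22r : band (Rule.ok (2 * 4) EX RL ⟨2 :: [3, 2, 1, 2, 3, 2, 3, 2, 3, 1, 2, 3, 2, 3, 2, 1, 2, 3, 2, 3, 2, 1, 2, 3], [2, 4], 2, false⟩) (lall (memL L) [3, 2, 1, 2, 3, 2, 3, 2, 3, 1, 2, 3, 2, 3, 2, 1, 2, 3, 2, 3, 2, 1, 2, 3]) = true := by decide +kernel

theorem cov2 : T.cover 2 [(sel (ones 175) ip2 1), (sel (ones 175) ip2 2), (sel (ones 175) ip2 3), (sel (ones 175) ip2 4), (sel (ones 175) ip2 5), (sel (ones 175) ip2 6), (sel (ones 175) ip2 7), (sel (ones 175) ip2 8), (sel (ones 175) ip2 9), (sel (ones 175) ip2 10), (sel (ones 175) ip2 11), (sel (ones 175) ip2 12), (sel (ones 175) ip2 13), (sel (ones 175) ip2 14), (sel (ones 175) ip2 15), (sel (ones 175) ip2 16), (sel (ones 175) ip2 17), (sel (ones 175) ip2 18), (sel (ones 175) ip2 19), (sel (ones 175) ip2 20), (sel (ones 175) ip2 21), (sel (ones 175) ip2 22),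 1] = true := by decide +kernel

theorem tl2 : T.treeLt 8 2 = true := by decide +kernel

theorem rot3_1 : T.rot 3 [3] (sel (ones 175) ip3 1) = true := by decide +kernel

theorem rot3_1r : band (Rule.ok (2 * 4) EX RL ⟨3 :: [3], [], 9, false⟩) (lall (memL L) [3]) = true := by decide +kernel

theorem rot3_2 : T.rot 3 [1, 3, 1] (sel (ones 175) ip3 2) = true := by decide +kernel

theorem rot3_2r : band (Rule.ok (2 * 4) EX RL ⟨3 :: [1, 3, 1], [], 0, false⟩) (lall (memL L) [1, 3, 1]) = true := by decide +kernel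

theorem rot3_3 : T.rot 3 [4, 3, 4] (sel (ones 175) ip3 3) = true := by decide +kernel

theorem rot3_3r : band (Rule.ok (2 * 4) EX RL ⟨3 :: [4, 3, 4], [], 4, true⟩) (lall (memL L) [4, 3, 4]) = true := by decide +kernel

theorem rot3_4 : T.rot 3 [2, 3, 4, 2, 3, 4, 2, 3, 2, 4, 2] (sel (ones 175) ip3 4) = true := by decide +kernel

theorem rot3_4r : band (Rule.ok (2 * 4) EX RL ⟨3 :: [2, 3, 4, 2, 3, 4, 2, 3, 2, 4, 2], [2], 7, true⟩) (lall (memL L) [2, 3, 4, 2, 3, 4, 2, 3, 2, 4, 2]) = true := by decide +kernel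

theorem rot3_5 : T.rot 3 [4, 2, 3, 4, 2, 3, 2, 4, 2, 3, 2] (sel (ones 175) ip3 5) = true := by decide +kernel

theorem rot3_5r : band (Rule.ok (2 * 4) EX RL ⟨3 :: [4, 2, 3, 4, 2, 3, 2, 4, 2, 3, 2], [2, 4, 2], 7, true⟩) (lall (memL L) [4, 2, 3, 4, 2, 3, 2, 4, 2, 3, 2]) = true := by decide +kernel

theorem rot3_6 : T.rot 3 [4, 2, 3, 2, 4, 2, 3, 2, 3, 4, 2] (sel (ones 175) ip3 6) = true := by decide +kernel

theorem rot3_6r : band (Rule.ok (2 * 4) EX RL ⟨3 :: [4, 2, 3, 2, 4, 2, 3, 2, 3, 4, 2], [6, 2, 4, 2, 6, 4], 7, true⟩) (lall (memL L) [4, 2, 3, 2, 4, 2, 3, 2, 3, 4, 2]) = true := by decide +kernel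

theorem rot3_7 : T.rot 3 [2, 4, 2, 3, 2, 3, 4, 2, 3, 4, 2] (sel (ones 175) ip3 7) = true := by decide +kernel

theorem rot3_7r : band (Rule.ok (2 * 4) EX RL ⟨3 :: [2, 4, 2, 3, 2, 3, 4, 2, 3, 4, 2], [6, 2, 4], 7, true⟩) (lall (memL L) [2, 4, 2, 3, 2, 3, 4, 2, 3, 4, 2]) = true := by decide +kernel

theorem rot3_8 : T.rot 3 [2, 4, 3, 2, 4, 3, 2, 3, 2, 4, 2] (sel (ones 175) ip3 8) = true := by decide +kernel

theorem rot3_8r : band (Rule.ok (2 * 4) EX RL ⟨3 :: [2, 4, 3, 2, 4, 3, 2, 3, 2, 4, 2], [6, 2], 7, false⟩) (lall (memL L) [2, 4, 3, 2, 4, 3, 2, 3, 2, 4, 2]) = true := by decide +kernel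

theorem rot3_9 : T.rot 3 [2, 4, 3, 2, 3, 2, 4, 2, 3, 2, 4] (sel (ones 175) ip3 9) = true := by decide +kernel

theorem rot3_9r : band (Rule.ok (2 * 4) EX RL ⟨3 :: [2, 4, 3, 2, 3, 2, 4, 2, 3, 2, 4], [6, 2, 4, 2, 6], 7, false⟩) (lall (memL L) [2, 4, 3, 2, 3, 2, 4, 2, 3, 2, 4]) = true := by decide +kernel

theorem rot3_10 : T.rot 3 [2, 3, 2, 4, 2, 3, 2, 4, 3, 2, 4] (sel (ones 175) ip3 10) = true := by decide +kernel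

theorem rot3_10r : band (Rule.ok (2 * 4) EX RL ⟨3 :: [2, 3, 2, 4, 2, 3, 2, 4, 3, 2, 4], [2, 4, 2, 4], 7, false⟩) (lall (memL L) [2, 3, 2, 4, 2, 3, 2, 4, 3, 2, 4]) = true := by decide +kernel

theorem rot3_11 : T.rot 3 [2, 4, 2, 3, 2, 4, 3, 2, 4, 3, 2] (sel (ones 175) ip3 11) = true := by decide +kernel

theorem rot3_11r : band (Rule.ok (2 * 4) EX RL ⟨3 :: [2, 4, 2, 3, 2, 4, 3, 2, 4, 3, 2], [2, 4], 7, false⟩) (lall (memL L) [2, 4, 2, 3, 2, 4, 3, 2, 4, 3, 2]) = true := by decide +kernel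

theorem rot3_12 : T.rot 3 [2, 1, 2, 3, 2, 1, 2, 3, 2, 1, 2, 3, 2, 1, 2, 3, 1, 2, 1, 2] (sel (ones 175) ip3 12) = true := by decide +kernel

theorem rot3_12r : band (Rule.ok (2 * 4) EX RL ⟨3 :: [2, 1, 2, 3, 2, 1, 2, 3, 2, 1, 2, 3, 2, 1, 2, 3, 1, 2, 1, 2], [0, 2, 0, 2], 3, true⟩) (lall (memL L) [2, 1, 2, 3, 2, 1, 2, 3, 2, 1, 2, 3, 2, 1, 2, 3, 1, 2, 1, 2]) = true := by decide +kernel

theorem rot3_13 : T.rot 3 [2, 1, 2, 3, 2, 1, 2, 3, 1, 2, 1, 2, 3, 2, 1, 2, 3, 2, 1, 2] (sel (ones 175) ip3 13) = true := by decide +kernel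

theorem rot3_13r : band (Rule.ok (2 * 4) EX RL ⟨3 :: [2, 1, 2, 3, 2, 1, 2, 3, 1, 2, 1, 2, 3, 2, 1, 2, 3, 2, 1, 2], [4, 2, 0, 2, 4, 2, 0, 2, 4], 3, true⟩) (lall (memL L) [2, 1, 2, 3, 2, 1, 2, 3, 1, 2, 1, 2, 3, 2, 1, 2, 3, 2, 1, 2]) = true := by decide +kernel

theorem rot3_14 : T.rot 3 [2, 1, 2, 3, 1, 2, 1, 2, 3, 2, 1, 2, 3, 2, 1, 2, 3, 2, 1, 2] (sel (ones 175) ip3 14) = true := by decide +kernel

theorem rot3_14r : band (Rule.ok (2 * 4) EX RL ⟨3 :: [2, 1, 2, 3, 1, 2, 1, 2, 3, 2, 1, 2, 3, 2, 1, 2, 3, 2, 1, 2], [4, 2, 0, 2, 4], 3, true⟩) (lall (memL L) [2, 1, 2, 3, 1, 2, 1, 2, 3, 2, 1, 2, 3, 2, 1, 2, 3, 2, 1, 2]) = true := by decide +kernel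

theorem rot3_15 : T.rot 3 [1, 2, 1, 2, 3, 2, 1, 2, 3, 2, 1, 2, 3, 2, 1, 2, 3, 2, 1, 2] (sel (ones 175) ip3 15) = true := by decide +kernel

theorem rot3_15r : band (Rule.ok (2 * 4) EX RL ⟨3 :: [1, 2, 1, 2, 3, 2, 1, 2, 3, 2, 1, 2, 3, 2, 1, 2, 3, 2, 1, 2], [4], 3, true⟩) (lall (memL L) [1, 2, 1, 2, 3, 2, 1, 2, 3, 2, 1, 2, 3, 2, 1, 2, 3, 2, 1, 2]) = true := by decide +kernel

theorem rot3_16 : T.rot 3 [2, 1, 2, 3, 2, 1, 2, 3, 2, 1, 2, 3, 2, 1, 2, 3, 2, 1, 2, 1] (sel (ones 175) ip3 16) = true := by decide +kernel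

theorem rot3_16r : band (Rule.ok (2 * 4) EX RL ⟨3 :: [2, 1, 2, 3, 2, 1, 2, 3, 2, 1, 2, 3, 2, 1, 2, 3, 2, 1, 2, 1], [], 3, false⟩) (lall (memL L) [2, 1, 2, 3, 2, 1, 2, 3, 2, 1, 2, 3, 2, 1, 2, 3, 2, 1, 2, 1]) = true := by decide +kernel

theorem rot3_17 : T.rot 3 [2, 1, 2, 3, 2, 1, 2, 3, 2, 1, 2, 3, 2, 1, 2, 1, 3, 2, 1, 2] (sel (ones 175) ip3 17) = true := by decide +kernel

theorem rot3_17r : band (Rule.ok (2 * 4) EX RL ⟨3 :: [2, 1, 2, 3, 2, 1, 2, 3, 2, 1, 2, 3, 2, 1, 2, 1, 3, 2, 1, 2], [4, 2, 0, 2], 3, false⟩) (lall (memL L) [2, 1, 2, 3, 2, 1, 2, 3, 2, 1, 2, 3, 2, 1, 2, 1, 3, 2, 1, 2]) = true := by decide +kernel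

theorem rot3_18 : T.rot 3 [2, 3, 2, 1, 2, 3, 2, 3, 2, 1, 3, 2, 3, 2, 3, 2, 1, 2, 3, 2, 3, 2, 1, 2] (sel (ones 175) ip3 18) = true := by decide +kernel

theorem rot3_18r : band (Rule.ok (2 * 4) EX RL ⟨3 :: [2, 3, 2, 1, 2, 3, 2, 3, 2, 1, 3, 2, 3, 2, 3, 2, 1, 2, 3, 2, 3, 2, 1, 2], [0, 2], 2, true⟩) (lall (memL L) [2, 3, 2, 1, 2, 3, 2, 3, 2, 1, 3, 2, 3, 2, 3, 2, 1, 2, 3, 2, 3, 2, 1, 2]) = true := by decide +kernel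

theorem rot3_19 : T.rot 3 [2, 1, 2, 3, 2, 3, 2, 1, 3, 2, 3, 2, 3, 2, 1, 2, 3, 2, 3, 2, 1, 2, 3, 2] (sel (ones 175) ip3 19) = true := by decide +kernel

theorem rot3_19r : band (Rule.ok (2 * 4) EX RL ⟨3 :: [2, 1, 2, 3, 2, 3, 2, 1, 3, 2, 3, 2, 3, 2, 1, 2, 3, 2, 3, 2, 1, 2, 3, 2], [0, 2, 4, 2], 2, true⟩) (lall (memL L) [2, 1, 2, 3, 2, 3, 2, 1, 3, 2, 3, 2, 3, 2, 1, 2, 3, 2, 3, 2, 1, 2, 3, 2]) = true := by decide +kernel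

theorem rot3_20 : T.rot 3 [2, 1, 3, 2, 3, 2, 3, 2, 1, 2, 3, 2, 3, 2, 1, 2, 3, 2, 3, 2, 1, 2, 3, 2] (sel (ones 175) ip3 20) = true := by decide +kernel

theorem rot3_20r : band (Rule.ok (2 * 4) EX RL ⟨3 :: [2, 1, 3, 2, 3, 2, 3, 2, 1, 2, 3, 2, 3, 2, 1, 2, 3, 2, 3, 2, 1, 2, 3, 2], [0, 2, 4, 2, 4, 2, 0, 2, 4, 2], 2, true⟩) (lall (memL L) [2, 1, 3, 2, 3, 2, 3, 2, 1, 2, 3, 2, 3, 2, 1, 2, 3, 2, 3, 2, 1, 2, 3, 2]) = true := by decide +kernel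

theorem rot3_21 : T.rot 3 [2, 3, 2, 1, 2, 3, 2, 3, 2, 1, 2, 3, 2, 3, 2, 1, 2, 3, 2, 3, 2, 1, 3, 2] (sel (ones 175) ip3 21) = true := by decide +kernel

theorem rot3_21r : band (Rule.ok (2 * 4) EX RL ⟨3 :: [2, 3, 2, 1, 2, 3, 2, 3, 2, 1, 2, 3, 2, 3, 2, 1, 2, 3, 2, 3, 2, 1, 3, 2], [2, 4, 2, 4, 2, 0, 2, 4, 2, 4], 2, true⟩) (lall (memL L) [2, 3, 2, 1, 2, 3, 2, 3, 2, 1, 2, 3, 2, 3, 2, 1, 2, 3, 2, 3, 2, 1, 3, 2]) = true := by decide +kernel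

theorem rot3_22 : T.rot 3 [1, 2, 3, 2, 3, 2, 1, 2, 3, 2, 3, 2, 1, 2, 3, 2, 3, 2, 1, 2, 3, 2, 3, 2] (sel (ones 175) ip3 22) = true := by decide +kernel

theorem rot3_22r : band (Rule.ok (2 * 4) EX RL ⟨3 :: [1, 2, 3, 2, 3, 2, 1, 2, 3, 2, 3, 2, 1, 2, 3, 2, 3, 2, 1, 2, 3, 2, 3, 2], [2, 4, 2, 4, 2, 0, 2, 4, 2, 4, 2], 2, false⟩) (lall (memL L) [1, 2, 3, 2, 3, 2, 1, 2, 3, 2, 3, 2, 1, 2, 3, 2, 3, 2, 1, 2, 3, 2, 3, 2]) = true := by decide +kernel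

theorem cov3 : T.cover 3 [(sel (ones 175) ip3 1), (sel (ones 175) ip3 2), (sel (ones 175) ip3 3), (sel (ones 175) ip3 4), (sel (ones 175) ip3 5), (sel (ones 175) ip3 6), (sel (ones 175) ip3 7), (sel (ones 175) ip3 8), (sel (ones 175) ip3 9), (sel (ones 175) ip3 10), (sel (ones 175) ip3 11), (sel (ones 175) ip3 12), (sel (ones 175) ip3 13), (sel (ones 175) ip3 14), (sel (ones 175) ip3 15), (sel (ones 175) ip3 16), (sel (ones 175) ip3 17), (sel (ones 175) ip3 18), (sel (ones 175) ip3 19), (sel (ones 175) ip3 20), (sel (ones 175) ip3 21), (sel (ones 175) ip3 22), 1] = true := by decide +kernel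

theorem tl3 : T.treeLt 8 3 = true := by decide +kernel

theorem rot4_1 : T.rot 4 [4] (sel (ones 175) ip4 1) = true := by decide +kernel

theorem rot4_1r : band (Rule.ok (2 * 4) EX RL ⟨4 :: [4], [], 9, false⟩) (lall (memL L) [4]) = true := by decide +kernel

theorem rot4_2 : T.rot 4 [3, 4, 3] (sel (ones 175) ip4 2) = true := by decide +kernel

theorem rot4_2r : band (Rule.ok (2 * 4) EX RL ⟨4 :: [3, 4, 3], [], 4, false⟩) (lall (memL L) [3, 4, 3]) = true := by decide +kernel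

theorem rot4_3 : T.rot 4 [2, 4, 2, 4, 2] (sel (ones 175) ip4 3) = true := by decide +kernel

theorem rot4_3r : band (Rule.ok (2 * 4) EX RL ⟨4 :: [2, 4, 2, 4, 2], [], 5, false⟩) (lall (memL L) [2, 4, 2, 4, 2]) = true := by decide +kernel

theorem rot4_4 : T.rot 4 [1, 2, 1, 2, 4, 2, 1, 2, 1] (sel (ones 175) ip4 4) = true := by decide +kernel

theorem rot4_4r : band (Rule.ok (2 * 4) EX RL ⟨4 :: [1, 2, 1, 2, 4, 2, 1, 2, 1], [], 6, true⟩) (lall (memL L) [1, 2, 1, 2, 4, 2, 1, 2, 1]) = true := by decide +kernel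

theorem rot4_5 : T.rot 4 [2, 1, 2, 1, 4, 1, 2, 1, 2] (sel (ones 175) ip4 5) = true := by decide +kernel

theorem rot4_5r : band (Rule.ok (2 * 4) EX RL ⟨4 :: [2, 1, 2, 1, 4, 1, 2, 1, 2], [0, 2, 0, 2], 6, false⟩) (lall (memL L) [2, 1, 2, 1, 4, 1, 2, 1, 2]) = true := by decide +kernel

theorem rot4_6 : T.rot 4 [1, 4, 1, 4, 1, 4, 1, 4, 1] (sel (ones 175) ip4 6) = true := by decide +kernel

theorem rot4_6r : band (Rule.ok (2 * 4) EX RL ⟨4 :: [1, 4, 1, 4, 1, 4, 1, 4, 1], [], 8, true⟩) (lall (memL L) [1, 4, 1, 4, 1, 4, 1, 4, 1]) = true := by decide +kernel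

theorem rot4_7 : T.rot 4 [2, 3, 4, 2, 3, 2, 4, 2, 3, 2, 3] (sel (ones 175) ip4 7) = true := by decide +kernel

theorem rot4_7r : band (Rule.ok (2 * 4) EX RL ⟨4 :: [2, 3, 4, 2, 3, 2, 4, 2, 3, 2, 3], [2, 4, 2, 4], 7, true⟩) (lall (memL L) [2, 3, 4, 2, 3, 2, 4, 2, 3, 2, 3]) = true := by decide +kernel

theorem rot4_8 : T.rot 4 [2, 3, 2, 4, 2, 3, 2, 3, 4, 2, 3] (sel (ones 175) ip4 8) = true := by decide +kernel

theorem rot4_8r : band (Rule.ok (2 * 4) EX RL ⟨4 :: [2, 3, 2, 4, 2, 3, 2, 3, 4, 2, 3], [6, 2, 4, 2, 6], 7, true⟩) (lall (memL L) [2, 3, 2, 4, 2, 3, 2, 3, 4, 2, 3]) = true := by decide +kernel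

theorem rot4_9 : T.rot 4 [2, 3, 2, 3, 4, 2, 3, 4, 2, 3, 2] (sel (ones 175) ip4 9) = true := by decide +kernel

theorem rot4_9r : band (Rule.ok (2 * 4) EX RL ⟨4 :: [2, 3, 2, 3, 4, 2, 3, 4, 2, 3, 2], [6], 7, true⟩) (lall (memL L) [2, 3, 2, 3, 4, 2, 3, 4, 2, 3, 2]) = true := by decide +kernel

theorem rot4_10 : T.rot 4 [3, 2, 4, 3, 2, 3, 2, 4, 2, 3, 2] (sel (ones 175) ip4 10) = true := by decide +kernel

theorem rot4_10r : band (Rule.ok (2 * 4) EX RL ⟨4 :: [3, 2, 4, 3, 2, 3, 2, 4, 2, 3, 2], [6, 2, 4, 2], 7, false⟩) (lall (memL L) [3, 2, 4, 3, 2, 3, 2, 4, 2, 3, 2]) = true := by decide +kernel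

theorem rot4_11 : T.rot 4 [3, 2, 3, 2, 4, 2, 3, 2, 4, 3, 2] (sel (ones 175) ip4 11) = true := by decide +kernel

theorem rot4_11r : band (Rule.ok (2 * 4) EX RL ⟨4 :: [3, 2, 3, 2, 4, 2, 3, 2, 4, 3, 2], [2, 4, 2, 4, 6], 7, false⟩) (lall (memL L) [3, 2, 3, 2, 4, 2, 3, 2, 4, 3, 2]) = true := by decide +kernel

theorem cov4 : T.cover 4 [(sel (ones 175) ip4 1), (sel (ones 175) ip4 2), (sel (ones 175) ip4 3), (sel (ones 175) ip4 4), (sel (ones 175) ip4 5), (sel (ones 175) ip4 6), (sel (ones 175) ip4 7), (sel (ones 175) ip4 8), (sel (ones 175) ip4 9), (sel (ones 175) ip4 10), (sel (ones 175) ip4 11)] = true := by decide +kernel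

theorem tl4 : T.treeLt 8 4 = true := by decide +kernel

end Cfsg.Agent.Spor.HSpb
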